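import Mathlib
import Groth.Prelude.Def_AlgSt4
import Groth.Agent.Lib.Helper2.AlgSt.Pts.UnivInjDiag
import Groth.Agent.Lib.Helper2.FibCat.Paste
import Groth.Agent.Lib.Helper2.FibCat.FpSwap
import Groth.Agent.Lib.Helper2.FibCat.FpId
import Groth.Agent.Lib.Helper2.FibCat.Magic
import Groth.Agent.Lib.Helper2.FibCat.FpInv
import Groth.Agent.Lib.Helper2.AlgSt.Pts.QCDescent
import Groth.Agent.Lib.Helper2.AlgSt.Pts.Space
import Groth.Agent.S12763

/-!
# Permanence of universally injective morphisms of algebraic stacks (helper6, on top of helper2's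
`Pts` library)
-/

set_option linter.unusedSectionVars false
set_option linter.unusedVariables false
set_option linter.unusedSimpArgs false
set_option autoImplicit false
set_option linter.style.haveILetI false
set_option maxHeartbeats 400000

noncomputable section

namespace Groth.Agent.Helper6.AlgStU

open CategoryTheory CategoryTheory.Functor CategoryTheory.Limits AlgebraicGeometry Opposite
open Groth.Agent.Helper2 Groth.Agent.Helper2.FibCatLib Groth.Agent.Helper2.StkLib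
open Groth.Agent.Helper2.AlgSpBasic
open Groth.Agent.Helper2.AlgStLib Groth.Agent.Helper2.AlgStLib.Substack
open Groth.Agent.Helper2.AlgStLib.Pts

universe u

variable {S : Scheme.{u}} {𝒳 𝒴 𝒵 : BasedCategory.{u, u + 1} (Over S)}

/-- Base change of a universally injective morphism. -/
theorem isUnivInjective_fpFst (f : 𝒳 ⥤ᵇ 𝒴) (g : 𝒵 ⥤ᵇ 𝒴)
    (hf : AlgSt.IsUnivInjective Scheme.fppfPrecoverage f) :
    AlgSt.IsUnivInjective Scheme.fppfPrecoverage (FibCat.fpFst g f) := by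
  intro 𝒲 h𝒲 k
  have h1 := hf 𝒲 h𝒲 (BasedFunctor.comp k g)
  have h2 := (bijective_map_of_isEquivOver (Paste.pasteB k g f)
    (Paste.pasteB_isEquivOver k g f)).1
  have h3 : FibCat.fpFst k (FibCat.fpFst g f) =
      BasedFunctor.comp (Paste.pasteB k g f) (FibCat.fpFst (BasedFunctor.comp k g) f) := rfl
  rw [h3]
  intro x y hxy
  rw [map_comp, map_comp] at hxy
  exact h2 (h1 hxy)

/-- Composition of universally injective morphisms. -/
theorem isUnivInjective_comp (h𝒳 : AlgSt.IsAlgStack Scheme.fppfPrecoverage 𝒳)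
    (h𝒴 : AlgSt.IsAlgStack Scheme.fppfPrecoverage 𝒴)
    (h𝒵 : AlgSt.IsAlgStack Scheme.fppfPrecoverage 𝒵) (f : 𝒳 ⥤ᵇ 𝒴) (g : 𝒴 ⥤ᵇ 𝒵)
    (hf : AlgSt.IsUnivInjective Scheme.fppfPrecoverage f)
    (hg : AlgSt.IsUnivInjective Scheme.fppfPrecoverage g) :
    AlgSt.IsUnivInjective Scheme.fppfPrecoverage (BasedFunctor.comp f g) := by
  apply isUnivInjective_of_isSurjective_diag h𝒳 h𝒵
  have s1 := isSurjective_diag_of_isUnivInjective h𝒳 h𝒴 f hf
  have s2 := isSurjective_diag_of_isUnivInjective h𝒴 h𝒵 g hg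
  have fX := h𝒳.isStack.1
  have fY := h𝒴.isStack.1
  have fZ := h𝒵.isStack.1
  have s3 : AlgSt.IsSurjective (Magic.canon f f g) := by
    rw [← Magic.Ψ_fst f f g]
    refine isSurjective_comp _ _ (isSurjective_of_isEquivOver _ (Magic.Ψ_isEquivOver f f g)) ?_
    exact isSurjective_fpFst fY (isFibGrpd_fp g g fY fY fZ)
      (isFibGrpd_fp (BasedFunctor.comp f g) (BasedFunctor.comp f g) fX fX fZ)
      (FibCat.diag g) (Magic.Hc f f g) s2
  exact isSurjective_congr (Magic.diagCompIso f g).symm (isSurjective_comp _ _ s1 s3)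

/-- Variant of helper2's `isSurjective_diag_of_isUnivInjective` (same proof): only injectivity on
points of the base changes of `f` to spectra of fields is used. -/
theorem isSurjective_diag_of_field_charts (h𝒳 : AlgSt.IsAlgStack Scheme.fppfPrecoverage 𝒳)
    (h𝒴 : AlgSt.IsAlgStack Scheme.fppfPrecoverage 𝒴) (f : 𝒳 ⥤ᵇ 𝒴)
    (hinj : ∀ (U : Over S) [IsAffine U.left] (y : FibCat.overCat U ⥤ᵇ 𝒴),
      Function.Injective (AlgSt.Points.map (FibCat.fpFst y f))) :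
    AlgSt.IsSurjective (FibCat.diag f) := by
  intro pt
  obtain ⟨q, rfl⟩ := AlgSt.Points.mk_surjective pt
  let U : Over S := Over.mk q.str
  have hb₁ : 𝒳.p.obj q.obj.obj.fst = U := q.lies
  have hfb₁ : 𝒴.p.obj (f.obj q.obj.obj.fst) = U := (f.w_obj _).trans hb₁
  obtain ⟨y, e, he⟩ := exists_functor_of_obj h𝒴.isStack.1 (f.obj q.obj.obj.fst) hfb₁
  have hγ : 𝒴.p.IsHomLift (𝟙 U) q.obj.obj.iso.hom := by
    have : 𝒴.p.IsHomLift (𝟙 (𝒳.p.obj q.obj.obj.fst)) q.obj.obj.iso.hom := q.obj.property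
    exact hb₁ ▸ this
  have he' : 𝒴.p.IsHomLift (𝟙 U) (e ≪≫ q.obj.obj.iso).hom := by
    have h5 : 𝒴.p.IsHomLift (𝟙 U ≫ 𝟙 U) (e.hom ≫ q.obj.obj.iso.hom) := inferInstance
    rw [Category.comp_id] at h5
    exact h5
  let w₁ : (FibCat.fp y f).obj := fpMkObj y f (Over.mk (𝟙 U)) q.obj.obj.fst e he
  let w₂ : (FibCat.fp y f).obj :=
    fpMkObj y f (Over.mk (𝟙 U)) q.obj.obj.snd (e ≪≫ q.obj.obj.iso) he'
  let p₁ : AlgSt.FPt (FibCat.fp y f) := ⟨q.K, q.str, w₁, rfl⟩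
  let p₂ : AlgSt.FPt (FibCat.fp y f) := ⟨q.K, q.str, w₂, rfl⟩
  have hfp : FibCat.IsFibGrpd (FibCat.fp y f).p :=
    isFibGrpd_fp y f (isFibGrpd_overCat U) h𝒳.isStack.1 h𝒴.isStack.1
  have h12 : AlgSt.Points.mk p₁ = AlgSt.Points.mk p₂ :=
    haveI : IsAffine U.left := inferInstanceAs (IsAffine (Spec (CommRingCat.of q.K)))
    hinj U y rfl
  rw [mk_eq_mk_iff hfp] at h12
  obtain ⟨r, m₁, m₂, -⟩ := h12
  replace m₁ : r.obj ⟶ w₁ := m₁
  replace m₂ : r.obj ⟶ w₂ := m₂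
  have hfst : m₁.hom.fst = m₂.hom.fst := over_hom_mk_id_ext (T := Over S) (U := U) _ _
  have hw₁ : y.map m₁.hom.fst ≫ e.hom = r.obj.obj.iso.hom ≫ f.map m₁.hom.snd := m₁.hom.w
  have hw₂ : y.map m₂.hom.fst ≫ (e.hom ≫ q.obj.obj.iso.hom) =
      r.obj.obj.iso.hom ≫ f.map m₂.hom.snd := m₂.hom.w
  have hw : f.map m₁.hom.snd ≫ q.obj.obj.iso.hom = f.map m₂.hom.snd :=
    aux_cancel (y.map m₁.hom.fst) (y.map m₂.hom.fst) e.hom q.obj.obj.iso.hom r.obj.obj.iso
      (f.map m₁.hom.snd) (f.map m₂.hom.snd) hw₁ hw₂ (congrArg (fun m => y.map m) hfst)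
  let ψ : (FibCat.diag f).obj r.obj.obj.snd ⟶ q.obj :=
    fpMkHom f f (Z := (FibCat.diag f).obj r.obj.obj.snd) (Z' := q.obj) m₁.hom.snd m₂.hom.snd (by
      have h3 : f.map m₁.hom.snd ≫ q.obj.obj.iso.hom = 𝟙 _ ≫ f.map m₂.hom.snd := by
        rw [hw, Category.id_comp]
      exact h3)
  have hl : 𝒳.p.obj r.obj.obj.snd = Over.mk r.str :=
    ((FibCat.fpSnd y f).w_obj r.obj).trans r.lies
  refine ⟨AlgSt.Points.mk ⟨r.K, r.str, r.obj.obj.snd, hl⟩, ?_⟩
  rw [AlgSt.Points.map_mk]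
  exact mk_eq_of_hom (p := (⟨r.K, r.str, r.obj.obj.snd, hl⟩ : AlgSt.FPt 𝒳).map (FibCat.diag f))
    (q := q) ψ

/-- A universally injective morphism to an algebraic stack is injective on points. -/
theorem injective_map_of_isUnivInjective (h𝒵 : AlgSt.IsAlgStack Scheme.fppfPrecoverage 𝒵)
    (F : 𝒳 ⥤ᵇ 𝒵) (hF : AlgSt.IsUnivInjective Scheme.fppfPrecoverage F) :
    Function.Injective (AlgSt.Points.map F) := by
  have h1 := hF 𝒵 h𝒵 (BasedFunctor.id 𝒵)
  have h2 := (bijective_map_of_isEquivOver (FpId.graphE F) (FpId.graphE_isEquivOver F)).1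
  have h3 := (bijective_map_of_isEquivOver (FpSwap.fpSwap F (BasedFunctor.id 𝒵))
    (FpSwap.fpSwap_isEquivOver F (BasedFunctor.id 𝒵))).1
  have h4 : F = BasedFunctor.comp (FpId.graphE F)
      (BasedFunctor.comp (FpSwap.fpSwap F (BasedFunctor.id 𝒵))
        (FibCat.fpFst (BasedFunctor.id 𝒵) F)) := rfl
  rw [h4]
  intro x y hxy
  rw [map_comp, map_comp, map_comp, map_comp] at hxy
  exact h2 (h3 (h1 hxy))

/-- If all base changes of `f` to affine schemes are universally injective, so is `f`. -/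
theorem isUnivInjective_of_forall_affine (h𝒳 : AlgSt.IsAlgStack Scheme.fppfPrecoverage 𝒳)
    (h𝒴 : AlgSt.IsAlgStack Scheme.fppfPrecoverage 𝒴) (f : 𝒳 ⥤ᵇ 𝒴)
    (h : ∀ (Z : Over S) [IsAffine Z.left] (z : FibCat.overCat Z ⥤ᵇ 𝒴),
      AlgSt.IsUnivInjective Scheme.fppfPrecoverage (FibCat.fpFst z f)) :
    AlgSt.IsUnivInjective Scheme.fppfPrecoverage f := by
  apply isUnivInjective_of_isSurjective_diag h𝒳 h𝒴
  apply isSurjective_diag_of_field_charts h𝒳 h𝒴
  intro U _ y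
  exact injective_map_of_isUnivInjective (isAlgStack_overCat U) _ (h U y)

/-- Injectivity on points of the first projection only depends on the 2-isomorphism class of the
functor along which one base changes. -/
theorem injective_fpFst_congr {𝒲 : BasedCategory.{u, u + 1} (Over S)} (Gs Gs' : 𝒲 ⥤ᵇ 𝒴)
    (f : 𝒳 ⥤ᵇ 𝒴) (θ : Gs ≅ Gs')
    (h : Function.Injective (AlgSt.Points.map (FibCat.fpFst Gs' f))) :
    Function.Injective (AlgSt.Points.map (FibCat.fpFst Gs f)) := by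
  let eF : Gs.toFunctor ⋙ (BasedFunctor.id 𝒴).toFunctor ≅
      (BasedFunctor.id 𝒲).toFunctor ⋙ Gs'.toFunctor := (BasedNatTrans.forgetful _ _).mapIso θ
  let eG : f.toFunctor ⋙ (BasedFunctor.id 𝒴).toFunctor ≅
      (BasedFunctor.id 𝒳).toFunctor ⋙ f.toFunctor := Iso.refl _
  have heF : ∀ w, 𝒴.p.IsHomLift (𝟙 (𝒲.p.obj w)) (eF.hom.app w) := fun w =>
    BasedNatTrans.isHomLift θ.hom rfl
  have heG : ∀ x, 𝒴.p.IsHomLift (𝟙 (𝒳.p.obj x)) (eG.hom.app x) := fun x =>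
    FpInv.isHomLift_id' 𝒴 (f.obj x) (f.w_obj x)
  let Φ := FpMap.fpMap Gs f Gs' f (BasedFunctor.id 𝒲) (BasedFunctor.id 𝒳) (BasedFunctor.id 𝒴)
    eF eG heF heG
  have hΦ : FibCat.IsEquivOver Φ :=
    FpMap.fpMap_isEquivOver _ _ _ _ _ _ _ _ _ heF heG ReprInv.isEquivOver_id ReprInv.isEquivOver_id
  have h2 := (bijective_map_of_isEquivOver Φ hΦ).1
  have h3 : FibCat.fpFst Gs f = BasedFunctor.comp Φ (FibCat.fpFst Gs' f) := rfl
  rw [h3]
  intro x y hxy
  rw [map_comp, map_comp] at hxy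
  exact h2 (h hxy)

/-- Descent of universal injectivity along a surjective morphism from an algebraic space (only
surjectivity on points of the cover is used). -/
theorem isUnivInjective_of_cover (h𝒳 : AlgSt.IsAlgStack Scheme.fppfPrecoverage 𝒳)
    (h𝒴 : AlgSt.IsAlgStack Scheme.fppfPrecoverage 𝒴) (f : 𝒳 ⥤ᵇ 𝒴)
    {𝒲 : BasedCategory.{u, u + 1} (Over S)} (h𝒲 : AlgSt.IsAlgStack Scheme.fppfPrecoverage 𝒲)
    (w : 𝒲 ⥤ᵇ 𝒴) (hsw : AlgSt.IsSurjective w)
    (h : AlgSt.IsUnivInjective Scheme.fppfPrecoverage (FibCat.fpFst w f)) :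
    AlgSt.IsUnivInjective Scheme.fppfPrecoverage f := by
  intro 𝒵 h𝒵 g a b hab
  have fX := h𝒳.isStack.1
  have fY := h𝒴.isStack.1
  have fZ := h𝒵.isStack.1
  have fW := h𝒲.isStack.1
  have h𝒵' : AlgSt.IsAlgStack Scheme.fppfPrecoverage (FibCat.fp w g) :=
    Groth.Agent.S12763.result h𝒴.isStack h𝒴.diag h𝒲 h𝒵 w g
  have fZ' := h𝒵'.isStack.1
  have fP : FibCat.IsFibGrpd (FibCat.fp g f).p := isFibGrpd_fp g f fZ fX fY
  have hs : AlgSt.IsSurjective (FibCat.fpSnd w g) := isSurjective_fpSnd fW fY fZ w g hsw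
  obtain ⟨c', hc'⟩ := hs (AlgSt.Points.map (FibCat.fpFst g f) a)
  obtain ⟨a', ha1, ha2⟩ := exists_points_fp_of_map_eq fP fZ fZ' (FibCat.fpFst g f)
    (FibCat.fpSnd w g) c' a hc'
  obtain ⟨b', hb1, hb2⟩ := exists_points_fp_of_map_eq fP fZ fZ' (FibCat.fpFst g f)
    (FibCat.fpSnd w g) c' b (hc'.trans hab)
  -- injectivity of `|𝒵' ×_𝒵 (𝒵 ×_𝒴 𝒳)| → |𝒵'|`
  have i1 : Function.Injective (AlgSt.Points.map
      (FibCat.fpFst (FibCat.fpFst w g) (FibCat.fpFst w f))) :=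
    h (FibCat.fp w g) h𝒵' (FibCat.fpFst w g)
  have i2 : Function.Injective (AlgSt.Points.map
      (FibCat.fpFst (BasedFunctor.comp (FibCat.fpFst w g) w) f)) := by
    have hb := bijective_map_of_isEquivOver (Paste.pasteB (FibCat.fpFst w g) w f)
      (Paste.pasteB_isEquivOver (FibCat.fpFst w g) w f)
    have h3 : FibCat.fpFst (FibCat.fpFst w g) (FibCat.fpFst w f) =
        BasedFunctor.comp (Paste.pasteB (FibCat.fpFst w g) w f)
          (FibCat.fpFst (BasedFunctor.comp (FibCat.fpFst w g) w) f) := rfl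
    rw [h3] at i1
    intro x y hxy
    obtain ⟨x', rfl⟩ := hb.2 x
    obtain ⟨y', rfl⟩ := hb.2 y
    rw [← map_comp, ← map_comp] at hxy
    rw [i1 hxy]
  have i3 : Function.Injective (AlgSt.Points.map
      (FibCat.fpFst (BasedFunctor.comp (FibCat.fpSnd w g) g) f)) :=
    injective_fpFst_congr _ _ f (FibCat.fpIso w g).symm i2
  have i4 : Function.Injective (AlgSt.Points.map
      (FibCat.fpFst (FibCat.fpSnd w g) (FibCat.fpFst g f))) := by
    have hb := bijective_map_of_isEquivOver (Paste.pasteB (FibCat.fpSnd w g) g f)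
      (Paste.pasteB_isEquivOver (FibCat.fpSnd w g) g f)
    have h3 : FibCat.fpFst (FibCat.fpSnd w g) (FibCat.fpFst g f) =
        BasedFunctor.comp (Paste.pasteB (FibCat.fpSnd w g) g f)
          (FibCat.fpFst (BasedFunctor.comp (FibCat.fpSnd w g) g) f) := rfl
    rw [h3]
    intro x y hxy
    rw [map_comp, map_comp] at hxy
    exact hb.1 (i3 hxy)
  have hab' : a' = b' := i4 (ha1.trans hb1.symm)
  rw [← ha2, ← hb2, hab']

end Groth.Agent.Helper6.AlgStU
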